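import Mathlib

/-!
The number of zeros of a quadratic form without singular zeros over a finite field.
-/

set_option autoImplicit false
set_option linter.style.haveILetI false
set_option linter.unusedSectionVars false

universe u v

noncomputable section

namespace Groth.Agent.QuadCount

open Module QuadraticMap

variable {k : Type u} [Field k] {V : Type v} [AddCommGroup V] [Module k V]

/-- No nonzero zero is singular. -/
def NoSing (Q : QuadraticForm k V) : Prop := ∀ v, Q v = 0 → (∀ w, polar Q v w = 0) → v = 0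

/-- There is a totally isotropic subspace of at least half the dimension. -/
def Split (Q : QuadraticForm k V) : Prop :=
  ∃ W : Submodule k V, finrank k V ≤ 2 * finrank k W ∧ ∀ w ∈ W, Q w = 0

/-- The hyperbolic splitting at a zero. -/
theorem exists_decomp (Q : QuadraticForm k V) (hQ : NoSing Q) {v : V} (hv : v ≠ 0) (h0 : Q v = 0) :
    ∃ (V' : Submodule k V) (e : V ≃ₗ[k] (k × k) × V'), e v = ((1, 0), 0) ∧
      (∀ u, Q u = (e u).1.1 * (e u).1.2 + Q (e u).2.1) ∧ NoSing (Q.comp V'.subtype) := by
  obtain ⟨w₀, hw₀⟩ : ∃ w, polar Q v w ≠ 0 := by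
    by_contra h
    push Not at h
    exact hv (hQ v h0 h)
  let w₁ := (polar Q v w₀)⁻¹ • w₀
  have hw₁ : polar Q v w₁ = 1 := by rw [polar_smul_right, smul_eq_mul, inv_mul_cancel₀ hw₀]
  clear_value w₁
  let w := w₁ - Q w₁ • v
  have hvv : polar Q v v = 0 := by rw [polar_self, h0, smul_zero]
  have hvw : polar Q v w = 1 := by rw [polar_sub_right, polar_smul_right, hw₁, hvv, smul_zero, sub_zero]
  have hQw : Q w = 0 := by
    have h1 := QuadraticMap.map_add Q w₁ (-(Q w₁ • v))
    rw [← sub_eq_add_neg, QuadraticMap.map_neg, QuadraticMap.map_smul, h0, smul_zero, add_zero, polar_neg_right,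
      polar_smul_right, polar_comm Q w₁ v, hw₁, smul_eq_mul, mul_one, add_neg_cancel] at h1
    exact h1
  have hww : polar Q w w = 0 := by rw [polar_self, hQw, smul_zero]
  let f1 : V →ₗ[k] k := (polarBilin Q w)
  let f2 : V →ₗ[k] k := (polarBilin Q v)
  let V' : Submodule k V := LinearMap.ker f1 ⊓ LinearMap.ker f2
  let p : V →ₗ[k] V := LinearMap.id - f1.smulRight v - f2.smulRight w
  have hp : ∀ u, p u ∈ V' := fun u => by
    refine ⟨?_, ?_⟩ <;> simp only [SetLike.mem_coe, LinearMap.mem_ker, p, f1, f2, LinearMap.sub_apply, LinearMap.id_coe, id_eq,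
      LinearMap.smulRight_apply, map_sub, map_smul, polarBilin_apply_apply, smul_eq_mul]
    · rw [polar_comm Q w v, hvw, hww]; ring
    · rw [hvv, hvw]; ring
  let e : V ≃ₗ[k] (k × k) × V' :=
    LinearEquiv.ofLinear ((f1.prod f2).prod (p.codRestrict V' hp))
      ((((LinearMap.fst k k k).comp (LinearMap.fst k (k × k) V')).smulRight v) +
        (((LinearMap.snd k k k).comp (LinearMap.fst k (k × k) V')).smulRight w) +
        V'.subtype.comp (LinearMap.snd k (k × k) V')) (by
      refine LinearMap.ext fun ⟨⟨a, b⟩, z, hz1, hz2⟩ => ?_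
      have h1 : polar Q w z = 0 := hz1
      have h2 : polar Q v z = 0 := hz2
      refine Prod.ext (Prod.ext ?_ ?_) (Subtype.ext ?_) <;>
        simp [f1, f2, p, map_add, map_smul, polar_comm Q w v, hvw, hww, hvv, h1, h2]) (by
      refine LinearMap.ext fun u => ?_
      simp [p])
  have hev : e v = ((1, 0), 0) := by
    refine Prod.ext (Prod.ext ?_ ?_) (Subtype.ext ?_) <;>
      simp [e, f1, f2, p, polar_comm Q w v, hvw, hvv]
  have hQe : ∀ u, Q u = (e u).1.1 * (e u).1.2 + Q (e u).2.1 := fun u => by
    have hd : u = (f1 u • v + f2 u • w) + p u := by simp [p]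
    conv_lhs => rw [hd]
    obtain ⟨h1, h2⟩ := hp u
    have h1 : polar Q w (p u) = 0 := h1
    have h2 : polar Q v (p u) = 0 := h2
    rw [QuadraticMap.map_add Q, polar_add_left, polar_smul_left, polar_smul_left, h1, h2, smul_zero, smul_zero,
      add_zero, add_zero, QuadraticMap.map_add Q, QuadraticMap.map_smul, QuadraticMap.map_smul, h0, hQw,
      polar_smul_left, polar_smul_right, hvw]
    simp [e]
  refine ⟨V', e, hev, hQe, fun z hz hzp => Subtype.ext (hQ z hz fun u => ?_)⟩
  obtain ⟨h1, h2⟩ := z.2
  have h1 : polar Q w (z : V) = 0 := h1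
  have h2 : polar Q v (z : V) = 0 := h2
  have hd : u = (f1 u • v + f2 u • w) + p u := by simp [p]
  rw [hd, polar_add_right, polar_add_right, polar_smul_right, polar_smul_right, polar_comm Q (z : V) v, h2,
    polar_comm Q (z : V) w, h1, smul_zero, smul_zero, add_zero, zero_add]
  have h3 := hzp ⟨p u, hp u⟩
  simpa [QuadraticMap.polar] using h3

/-- A subspace on which the form vanishes is orthogonal to itself. -/
theorem polar_eq_zero_of_iso {Q : QuadraticForm k V} {W : Submodule k V} (hW : ∀ w ∈ W, Q w = 0) {a b : V}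
    (ha : a ∈ W) (hb : b ∈ W) : polar Q a b = 0 := by
  rw [polar, hW _ (add_mem ha hb), hW _ ha, hW _ hb, sub_zero, sub_zero]

theorem split_iff [FiniteDimensional k V] (Q : QuadraticForm k V) {v : V} {V' : Submodule k V}
    (e : V ≃ₗ[k] (k × k) × V') (hev : e v = ((1, 0), 0)) (he : ∀ u, Q u = (e u).1.1 * (e u).1.2 + Q (e u).2.1) :
    Split Q ↔ Split (Q.comp V'.subtype) := by
  have hdim : finrank k V = finrank k V' + 2 := by
    rw [e.finrank_eq, finrank_prod, finrank_prod, finrank_self]; omega
  constructor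
  · rintro ⟨W, hW, hiso⟩
    let y : W →ₗ[k] k := ((LinearMap.snd k k k).comp ((LinearMap.fst k (k × k) V').comp e.toLinearMap)).comp W.subtype
    let π : LinearMap.ker y →ₗ[k] V' :=
      (((LinearMap.snd k (k × k) V').comp e.toLinearMap).comp W.subtype).comp (LinearMap.ker y).subtype
    refine ⟨LinearMap.range π, ?_, ?_⟩
    · have hy := LinearMap.finrank_range_add_finrank_ker y
      have hπ := LinearMap.finrank_range_add_finrank_ker π
      have hker : ∀ a : LinearMap.ker π, ((a : LinearMap.ker y) : W).1 = (e (((a : LinearMap.ker y) : W).1)).1.1 • v :=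
          fun a => by
        refine e.injective (Prod.ext (Prod.ext ?_ ?_) ?_)
        · simp [hev]
        · have h2 : (e (((a : LinearMap.ker y) : W).1)).1.2 = 0 := (a : LinearMap.ker y).2
          simp [hev, h2]
        · have h3 : (e (((a : LinearMap.ker y) : W).1)).2 = 0 := a.2
          simp [hev, h3]
      by_cases hvW : v ∈ W
      · have h0 : ∀ a : W, y a = 0 := fun a => by
          show (e a.1).1.2 = 0
          have h := polar_eq_zero_of_iso hiso hvW a.2
          rw [polar, he (v + a), he v, he a] at h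
          simp [hev] at h
          linear_combination h
        have e1 : finrank k (LinearMap.range y) = 0 := by
          rw [LinearMap.range_eq_bot.2 (LinearMap.ext h0), finrank_bot]
        have e2 : finrank k (LinearMap.ker π) ≤ 1 := by
          refine finrank_le_one ⟨⟨⟨v, hvW⟩, h0 _⟩, LinearMap.mem_ker.2 ?_⟩ fun a =>
            ⟨(e (((a : LinearMap.ker y) : W).1)).1.1, ?_⟩
          · show (e v).2 = 0
            rw [hev]
          · exact Subtype.ext (Subtype.ext (Subtype.ext (hker a).symm))
        omega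
      · have e1 : finrank k (LinearMap.range y) ≤ 1 :=
          (Submodule.finrank_le _).trans (finrank_self k).le
        have e2 : finrank k (LinearMap.ker π) = 0 := by
          rw [Submodule.finrank_eq_zero, Submodule.eq_bot_iff]
          intro a ha
          have h := hker ⟨a, ha⟩
          by_cases hc : (e ((a : W).1)).1.1 = 0
          · exact Subtype.ext (Subtype.ext (by rw [h]; simp [hc]))
          · refine absurd ?_ hvW
            have hh := congrArg (fun z => ((e ((a : W).1)).1.1)⁻¹ • z) h
            simp only [smul_smul, inv_mul_cancel₀ hc, one_smul] at hh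
            exact hh ▸ W.smul_mem _ (a : W).2
        omega
    · rintro _ ⟨a, rfl⟩
      have h := hiso _ (a : W).2
      rw [he, show (e (a : W).1).1.2 = 0 from a.2, mul_zero, zero_add] at h
      exact h
  · rintro ⟨W, hW, hiso⟩
    let ι : k × W →ₗ[k] V := e.symm.toLinearMap.comp
      (((LinearMap.inl k k k).comp (LinearMap.fst k k W)).prod (W.subtype.comp (LinearMap.snd k k W)))
    have hι : Function.Injective ι := fun a b h => by
      have := e.symm.injective h
      exact Prod.ext (congrArg (fun z : (k × k) × V' => z.1.1) this)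
        (Subtype.ext (congrArg (fun z : (k × k) × V' => z.2) this))
    refine ⟨LinearMap.range ι, ?_, ?_⟩
    · rw [LinearMap.finrank_range_of_inj hι, finrank_prod, finrank_self]; omega
    · rintro _ ⟨a, rfl⟩
      have h := hiso a.2.1 a.2.2
      rw [he]
      simp [ι]
      exact h

variable [Fintype k]

/-- Solutions of `x * y = c`. -/
theorem card_mul_eq [DecidableEq k] (c : k) :
    (Nat.card {p : k × k // p.1 * p.2 = c} : ℤ) = (Fintype.card k : ℤ) - 1 + if c = 0 then (Fintype.card k : ℤ) else 0 := by
  have hu : (Nat.card kˣ : ℤ) = (Fintype.card k : ℤ) - 1 := by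
    rw [Nat.card_units, Nat.card_eq_fintype_card, Nat.cast_sub Fintype.card_pos]; rfl
  split_ifs with hc
  · subst hc
    have e : {p : k × k // p.1 * p.2 = 0} ≃ kˣ ⊕ k :=
      { toFun := fun p => if h : p.1.1 = 0 then Sum.inr p.1.2 else Sum.inl (Units.mk0 _ h)
        invFun := Sum.elim (fun a => ⟨(a, 0), mul_zero _⟩) (fun b => ⟨(0, b), zero_mul _⟩)
        left_inv := fun ⟨⟨a, b⟩, h⟩ => by
          by_cases ha : a = 0
          · subst ha; simp
          · have hb : b = 0 := (mul_eq_zero.1 h).resolve_left ha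
            subst hb; simp [ha]
        right_inv := fun s => by rcases s with a | b <;> simp }
    rw [Nat.card_congr e, Nat.card_sum, Nat.cast_add, hu, Nat.card_eq_fintype_card]
  · have e : {p : k × k // p.1 * p.2 = c} ≃ kˣ :=
      { toFun := fun p => Units.mk0 p.1.1 fun h => hc (by rw [← p.2, h, zero_mul])
        invFun := fun a => ⟨(a, (a⁻¹ : kˣ) * c), by simp [← mul_assoc]⟩
        left_inv := fun ⟨⟨a, b⟩, h⟩ => by
          have ha : a ≠ 0 := fun h0 => hc (by rw [← h, h0]; simp)
          refine Subtype.ext (Prod.ext rfl ?_)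
          suffices a⁻¹ * c = b by simpa
          rw [inv_mul_eq_iff_eq_mul₀ ha]; exact h.symm
        right_inv := fun a => Units.ext rfl }
    rw [Nat.card_congr e, hu, add_zero]

theorem card_zero_step [FiniteDimensional k V] (Q : QuadraticForm k V) {V' : Submodule k V}
    (e : V ≃ₗ[k] (k × k) × V') (he : ∀ u, Q u = (e u).1.1 * (e u).1.2 + Q (e u).2.1) :
    (Nat.card {u : V // Q u = 0} : ℤ) = (Fintype.card k : ℤ) * Nat.card {z : V' // Q z = 0} +
      ((Fintype.card k : ℤ) - 1) * (Fintype.card k : ℤ) ^ finrank k V' := by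
  classical
  haveI : Finite V' := Module.finite_of_finite k
  haveI := Fintype.ofFinite V'
  let E : {u : V // Q u = 0} ≃ Σ z : V', {p : k × k // p.1 * p.2 = - Q z} :=
    { toFun := fun u => ⟨(e u.1).2, (e u.1).1, eq_neg_of_add_eq_zero_left ((he u.1).symm.trans u.2)⟩
      invFun := fun s => ⟨e.symm (s.2.1, s.1), by rw [he]; simp [s.2.2]⟩
      left_inv := fun u => Subtype.ext (by simp)
      right_inv := fun ⟨z, p, hp⟩ => by
        refine Sigma.subtype_ext ?_ ?_ <;> simp }
  rw [Nat.card_congr E, Nat.card_sigma, Nat.cast_sum, Finset.sum_congr rfl fun z _ => card_mul_eq _,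
    Finset.sum_add_distrib, Finset.sum_const, Finset.card_univ, Module.card_eq_pow_finrank (K := k), nsmul_eq_mul,
    Nat.cast_pow, ← Finset.sum_filter, Finset.sum_const, nsmul_eq_mul, Nat.card_eq_fintype_card, Fintype.card_subtype]
  simp only [neg_eq_zero]
  ring

/-- Chevalley–Warning. -/
theorem exists_zero [FiniteDimensional k V] (Q : QuadraticForm k V) (h : 3 ≤ finrank k V) :
    ∃ v : V, v ≠ 0 ∧ Q v = 0 := by
  classical
  let b := Module.finBasis k V
  let B := Q.toBilin b
  let f : MvPolynomial (Fin (finrank k V)) k :=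
    ∑ i, ∑ j, MvPolynomial.C (B (b i) (b j)) * MvPolynomial.X i * MvPolynomial.X j
  have hev : ∀ x : Fin (finrank k V) → k, MvPolynomial.eval x f = Q (∑ i, x i • b i) := fun x => by
    rw [← QuadraticMap.toQuadraticMap_toBilin Q b]
    simp only [f, map_sum, map_mul, MvPolynomial.eval_C, MvPolynomial.eval_X, LinearMap.BilinMap.toQuadraticMap_apply,
      map_smul, LinearMap.sum_apply, LinearMap.smul_apply, smul_eq_mul, Finset.mul_sum]
    rw [Finset.sum_comm]
    refine Finset.sum_congr rfl fun i _ => Finset.sum_congr rfl fun j _ => ?_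
    simp only [B]; ring
  have hdeg : f.totalDegree < Fintype.card (Fin (finrank k V)) := by
    rw [Fintype.card_fin]
    refine lt_of_le_of_lt ((MvPolynomial.totalDegree_finset_sum _ _).trans (Finset.sup_le fun i _ =>
      (MvPolynomial.totalDegree_finset_sum _ _).trans (Finset.sup_le fun j _ => ?_))) (show 2 < _ by omega)
    refine (MvPolynomial.totalDegree_mul _ _).trans ?_
    have := (MvPolynomial.totalDegree_mul (MvPolynomial.C (B (b i) (b j))) (MvPolynomial.X i : MvPolynomial _ k))
    simp only [MvPolynomial.totalDegree_C, MvPolynomial.totalDegree_X] at this ⊢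
    omega
  obtain ⟨p, hp⟩ := CharP.exists k
  haveI : Fact p.Prime := ⟨CharP.char_is_prime k p⟩
  have hdvd := char_dvd_card_solutions p hdeg
  have h0 : MvPolynomial.eval (0 : Fin (finrank k V) → k) f = 0 := by rw [hev]; simp
  obtain ⟨⟨x, hx⟩, hxne⟩ := Fintype.exists_ne_of_one_lt_card (α := {x : Fin (finrank k V) → k // MvPolynomial.eval x f = 0})
    (lt_of_lt_of_le (Fact.out (p := p.Prime)).one_lt (Nat.le_of_dvd (Fintype.card_pos_iff.2 ⟨⟨0, h0⟩⟩) hdvd)) ⟨0, h0⟩
  refine ⟨∑ i, x i • b i, fun e0 => hxne (Subtype.ext (funext fun i => ?_)), by rw [← hev]; exact hx⟩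
  exact Fintype.linearIndependent_iff.1 b.linearIndependent x e0 i

/-- The count. -/
theorem count : ∀ (N : ℕ) (W : Type v) [AddCommGroup W] [Module k W] [FiniteDimensional k W],
    finrank k W = N → ∀ (Q : QuadraticForm k W), NoSing Q →
      (Odd N → (Fintype.card k : ℤ) * Nat.card {u : W // Q u = 0} = (Fintype.card k : ℤ) ^ N) ∧
      ∀ m, N = 2 * m → ∃ ε : ℤ, (ε = 1 ∨ ε = -1) ∧ (ε = 1 ↔ Split Q) ∧
        (Fintype.card k : ℤ) * Nat.card {u : W // Q u = 0} =
          (Fintype.card k : ℤ) ^ N + ε * ((Fintype.card k : ℤ) ^ (m + 1) - (Fintype.card k : ℤ) ^ m) := by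
  intro N
  induction N using Nat.strong_induction_on with
  | h N ih =>
    intro W _ _ _ hN Q hQ
    set q := (Fintype.card k : ℤ)
    by_cases hiso : ∃ v : W, v ≠ 0 ∧ Q v = 0
    · obtain ⟨v, hv, h0⟩ := hiso
      obtain ⟨V', e, hev, he, hQ'⟩ := exists_decomp Q hQ hv h0
      have hdim : N = finrank k V' + 2 := by
        rw [← hN, e.finrank_eq, finrank_prod, finrank_prod, finrank_self]; omega
      obtain ⟨ho, hev'⟩ := ih (finrank k V') (by omega) V' rfl _ hQ'
      have hstep : (Nat.card {u : W // Q u = 0} : ℤ) = q * Nat.card {u : V' // Q.comp V'.subtype u = 0} +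
          (q - 1) * q ^ finrank k V' := card_zero_step Q e he
      constructor
      · intro hodd
        have := ho (by rw [hdim, Nat.odd_add] at hodd; exact hodd.2 even_two)
        rw [hstep, hdim, pow_add]
        linear_combination q * this
      · intro m hm
        obtain ⟨ε, hε, hsplit, h⟩ := hev' (m - 1) (by omega)
        refine ⟨ε, hε, hsplit.trans (split_iff Q e hev he).symm, ?_⟩
        rw [hstep, hdim, show m + 1 = (m - 1 + 1) + 1 by omega, show q ^ m = q ^ (m - 1 + 1) by
          rw [Nat.sub_add_cancel (by omega)], pow_add, pow_succ q (m - 1 + 1), pow_succ q (m - 1)]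
        rw [pow_succ q (m - 1)] at h
        linear_combination q * h
    · push Not at hiso
      have hcard : Nat.card {u : W // Q u = 0} = 1 := by
        rw [Nat.card_eq_one_iff_unique]
        exact ⟨⟨fun a b => Subtype.ext (by
          rw [not_not.1 fun h => hiso _ h a.2, not_not.1 fun h => hiso _ h b.2])⟩, ⟨⟨0, QuadraticMap.map_zero Q⟩⟩⟩
      have hN2 : N ≤ 2 := by
        by_contra h
        obtain ⟨v, hv, h0⟩ := exists_zero Q (by omega)
        exact hiso v hv h0
      rw [hcard]
      push_cast
      refine ⟨fun hodd => ?_, fun m hm => ?_⟩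
      · obtain rfl : N = 1 := by obtain ⟨c, rfl⟩ := hodd; omega
        ring
      · rcases (show m = 0 ∨ m = 1 by omega) with rfl | rfl
        · refine ⟨1, Or.inl rfl, iff_of_true rfl ⟨⊥, by omega, fun w hw => ?_⟩, by rw [hm]; ring⟩
          rw [(Submodule.mem_bot k).1 hw, QuadraticMap.map_zero]
        · refine ⟨-1, Or.inr rfl, iff_of_false (by norm_num) ?_, by rw [hm]; ring⟩
          rintro ⟨S, hS, hSiso⟩
          have hpos : 0 < finrank k S := by omega
          obtain ⟨a, ha⟩ := Module.finrank_pos_iff_exists_ne_zero.1 hpos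
          exact hiso a.1 (fun h => ha (Subtype.ext h)) (hSiso a.1 a.2)

/-- Totally isotropic subspaces may be shrunk to the exact dimension. -/
theorem split_iff_exact [FiniteDimensional k V] (Q : QuadraticForm k V) {m : ℕ} (h : finrank k V = 2 * m) :
    Split Q ↔ ∃ W : Submodule k V, finrank k W = m ∧ ∀ w ∈ W, Q w = 0 := by
  constructor
  · rintro ⟨W, hW, hiso⟩
    let b := Module.finBasis k W
    let f : Fin m → V := fun i => b ⟨i, by omega⟩
    have hli : LinearIndependent k f :=
      (b.linearIndependent.map' W.subtype W.ker_subtype).comp (fun i : Fin m => (⟨i, by omega⟩ : Fin (finrank k W)))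
        fun i j e => Fin.ext (by simpa using congrArg Fin.val e)
    refine ⟨Submodule.span k (Set.range f), by rw [finrank_span_eq_card hli, Fintype.card_fin], fun w hw => hiso w ?_⟩
    exact (Submodule.span_le.2 (by rintro _ ⟨i, rfl⟩; exact (b _).2)) hw
  · rintro ⟨W, hW, hiso⟩
    exact ⟨W, by omega, hiso⟩

end Groth.Agent.QuadCount
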