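import Groth.Agent.HypJac.Main
import Groth.Prelude.Def_LefPen
import Groth.Prelude.Def_SgaExt
import Mathlib

/-!
Rational points of a hypersurface in projective space are the lines on the cone over it.
-/

set_option autoImplicit false
set_option linter.style.haveILetI false
set_option backward.isDefEq.respectTransparency false
set_option backward.isDefEq.respectTransparency.types false

universe u

open CategoryTheory AlgebraicGeometry TopologicalSpace MvPolynomial

noncomputable section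

namespace Groth.Agent.QuadCount

variable {k : Type u} [Field k] {n d : ℕ} (G : LefPen.Form n k d)

abbrev Z : Scheme.{u} := (LefPen.hypIdeal G).subscheme

abbrev str : Z G ⟶ Spec (CommRingCat.of k) := (LefPen.hypIdeal G).subschemeι ≫ CohB1.ProjSpace.toSpec n k

/-- The embedding in projective space. -/
abbrev emb : Z G ⟶ PicPn.P n k := (LefPen.hypIdeal G).subschemeι

/-- The trace of the standard chart. -/
abbrev U (l : Fin (n + 1)) : (Z G).Opens := emb G ⁻¹ᵁ PicPn.ch (k := k) l

theorem hU (l : Fin (n + 1)) : IsAffineOpen (U G l) :=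
  (CompInt.C k n l).2.preimage (LefPen.hypIdeal G).subschemeι

abbrev res' (l : Fin (n + 1)) : Γ(PicPn.P n k, PicPn.ch (k := k) l) →+* Γ(Z G, U G l) :=
  ((emb G).app (PicPn.ch (k := k) l)).hom

/-- Dehomogenisation restricted to the hypersurface. -/
abbrev tau (l : Fin (n + 1)) : MvPolynomial (Fin (n + 1)) k →+* Γ(Z G, U G l) :=
  (res' G l).comp (GrT.deh (CohB1.polyGrading n k) (PicPn.X_mem l))

/-- The constants on a chart. -/
abbrev toK (l : Fin (n + 1)) : k →+* Γ(Z G, U G l) :=
  ((str G).appLE ⊤ (U G l) le_top).hom.comp (Scheme.ΓSpecIso (CommRingCat.of k)).inv.hom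

theorem toK_eq (l : Fin (n + 1)) (c : k) : toK G l c = tau G l (C c) := by
  rw [← MvPolynomial.algebraMap_eq, RingHom.comp_apply, RingHom.comp_apply,
    ← ProjMor.res_toGlobal_base (CohB1.polyGrading n k) (PicPn.X_mem l) c]
  show ((str G).appLE ⊤ (U G l) le_top).hom _ = _
  rw [← Scheme.Hom.appLE_comp_appLE (emb G) (CohB1.ProjSpace.toSpec n k) ⊤
    (PicPn.ch (k := k) l) (U G l) le_top le_rfl, Scheme.Hom.appLE_eq_app]
  rfl

theorem tau_self (l : Fin (n + 1)) : tau G l (X l) = 1 := by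
  rw [RingHom.comp_apply, GrT.deh_self, map_one]

theorem tau_form (l : Fin (n + 1)) : tau G l G.1 = 0 := by
  show GrT.deh (CohB1.polyGrading n k) (PicPn.X_mem l) G.1 ∈ RingHom.ker (res' G l)
  rw [show RingHom.ker (res' G l) = _ from (LefPen.hypIdeal G).ker_subschemeι_app (CompInt.C k n l),
    CompInt.hypIdeal_chart]
  exact Ideal.subset_span rfl

/-- The point of a homomorphism on a chart. -/
def chartPt (l : Fin (n + 1)) (φ : Γ(Z G, U G l) →+* k) : Spec (CommRingCat.of k) ⟶ Z G :=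
  Spec.map (CommRingCat.ofHom φ) ≫ (hU G l).fromSpec

theorem fromSpec_str (l : Fin (n + 1)) :
    (hU G l).fromSpec ≫ str G = Spec.map (CommRingCat.ofHom (toK G l)) := by
  rw [← IsAffineOpen.SpecMap_appLE_fromSpec (str G) (isAffineOpen_top _) (hU G l) le_top,
    IsAffineOpen.fromSpec_top, Scheme.isoSpec_Spec_inv, ← Spec.map_comp]
  rfl

theorem chartPt_str (l : Fin (n + 1)) (φ : Γ(Z G, U G l) →+* k) :
    chartPt G l φ ≫ str G = 𝟙 _ ↔ φ.comp (toK G l) = RingHom.id k := by
  rw [chartPt, Category.assoc, fromSpec_str, ← Spec.map_comp, ← Spec.map_id, Spec.map_inj]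
  exact ⟨fun h => congrArg CommRingCat.Hom.hom h, fun h => CommRingCat.hom_ext h⟩

abbrev pt0 : Spec (CommRingCat.of k) := IsLocalRing.closedPoint k

theorem exists_chartPt {g : Spec (CommRingCat.of k) ⟶ Z G} {l : Fin (n + 1)} (hl : g.base pt0 ∈ U G l) :
    ∃ φ : Γ(Z G, U G l) →+* k, chartPt G l φ = g := by
  have hr : Set.range g.base ⊆ Set.range (hU G l).fromSpec.base := by
    rintro _ ⟨z, rfl⟩
    rw [(hU G l).range_fromSpec, Subsingleton.elim (α := PrimeSpectrum k) z pt0]
    exact hl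
  refine ⟨(Spec.preimage (IsOpenImmersion.lift (hU G l).fromSpec g hr)).hom, ?_⟩
  rw [chartPt, CommRingCat.ofHom_hom, Spec.map_preimage, IsOpenImmersion.lift_fac]

theorem mem_self (l : Fin (n + 1)) (φ : Γ(Z G, U G l) →+* k) : (chartPt G l φ).base pt0 ∈ U G l := by
  show (chartPt G l φ).base pt0 ∈ (U G l : Set (Z G))
  rw [← (hU G l).range_fromSpec]
  exact ⟨_, (Scheme.Hom.comp_apply _ _ _).symm⟩

theorem mem_iff (l j : Fin (n + 1)) (φ : Γ(Z G, U G l) →+* k) :
    (chartPt G l φ).base pt0 ∈ U G j ↔ φ (tau G l (X j)) ≠ 0 := by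
  have hb : U G l ⊓ U G j = (Z G).basicOpen (tau G l (X j)) := by
    show emb G ⁻¹ᵁ (PicPn.ch (k := k) l ⊓ PicPn.ch (k := k) j) = _
    rw [PicPn.ch_inf, Scheme.preimage_basicOpen]
    rfl
  have h1 : (chartPt G l φ).base pt0 ∈ U G j ↔ (chartPt G l φ).base pt0 ∈ U G l ⊓ U G j :=
    ⟨fun h => ⟨mem_self G l φ, h⟩, fun h => h.2⟩
  rw [h1, hb, chartPt, Scheme.Hom.comp_apply]
  show (Spec.map (CommRingCat.ofHom φ)).base pt0 ∈ (hU G l).fromSpec ⁻¹ᵁ (Z G).basicOpen (tau G l (X j)) ↔ _
  rw [(hU G l).fromSpec_preimage_basicOpen]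
  show tau G l (X j) ∉ (IsLocalRing.maximalIdeal k).comap φ ↔ _
  rw [Ideal.mem_comap, IsLocalRing.maximalIdeal_eq_bot, Ideal.mem_bot]

theorem tau_hom_eq (l : Fin (n + 1)) (φ : Γ(Z G, U G l) →+* k) (h : φ.comp (toK G l) = RingHom.id k) :
    φ.comp (tau G l) = eval fun j => φ (tau G l (X j)) := by
  refine MvPolynomial.ringHom_ext (fun c => ?_) fun j => by simp
  rw [eval_C, RingHom.comp_apply, ← toK_eq]
  exact RingHom.congr_fun h c

theorem exists_hom (l : Fin (n + 1)) (v : Fin (n + 1) → k) (hl : v l = 1) (hv : eval v G.1 = 0) :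
    ∃ φ : Γ(Z G, U G l) →+* k, φ.comp (tau G l) = eval v := by
  let χ := ProjMor.chartHom (𝒜 := CohB1.polyGrading n k) (PicPn.X_mem l) (eval v) (by simp [hl])
  have hπ : Function.Surjective (res' G l) := (LefPen.hypIdeal G).subschemeι_app_surjective (CompInt.C k n l)
  have hker : RingHom.ker (res' G l) ≤ RingHom.ker χ := by
    rw [show RingHom.ker (res' G l) = _ from (LefPen.hypIdeal G).ker_subschemeι_app (CompInt.C k n l),
      CompInt.hypIdeal_chart, Ideal.span_singleton_le_iff_mem, RingHom.mem_ker]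
    show χ (GrT.deh _ _ G.1) = 0
    rw [ProjMor.chartHom_deh, hv]
  refine ⟨(res' G l).liftOfSurjective hπ ⟨χ, hker⟩, RingHom.ext fun p => ?_⟩
  rw [RingHom.comp_apply, RingHom.comp_apply, RingHom.liftOfRightInverse_comp_apply]
  exact ProjMor.chartHom_deh (PicPn.X_mem l) (eval v) (by simp [hl]) p

/-- Normalised vectors on the cone. -/
def Norm : Set (Fin (n + 1) → k) :=
  {v | ∃ l, v l = 1 ∧ (∀ j, j < l → v j = 0) ∧ eval v G.1 = 0}

theorem exists_min {p : Fin (n + 1) → Prop} (h : ∃ l, p l) : ∃ l, p l ∧ ∀ j, j < l → ¬ p j := by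
  classical
  obtain ⟨l, hl, hmin⟩ := Finset.exists_min_image (Finset.univ.filter p) id
    (by obtain ⟨l, hl⟩ := h; exact ⟨l, by simp [hl]⟩)
  exact ⟨l, (Finset.mem_filter.1 hl).2, fun j hj hp => absurd (hmin j (by simp [hp])) (not_le.2 hj)⟩

/-- A point with its normalised coordinates. -/
def Coords (g : Spec (CommRingCat.of k) ⟶ Z G) (v : Fin (n + 1) → k) : Prop :=
  ∃ (l : Fin (n + 1)) (φ : Γ(Z G, U G l) →+* k), chartPt G l φ = g ∧ v l = 1 ∧ (∀ j, j < l → v j = 0) ∧
    φ.comp (tau G l) = eval v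

theorem coords_mem {g : Spec (CommRingCat.of k) ⟶ Z G} {v : Fin (n + 1) → k} (h : Coords G g v) (j : Fin (n + 1)) :
    g.base pt0 ∈ U G j ↔ v j ≠ 0 := by
  obtain ⟨l, φ, rfl, -, -, hφ⟩ := h
  rw [mem_iff, show φ (tau G l (X j)) = eval v (X j) from RingHom.congr_fun hφ _, eval_X]

theorem coords_unique {g g' : Spec (CommRingCat.of k) ⟶ Z G} {v v' : Fin (n + 1) → k} (h : Coords G g v)
    (h' : Coords G g' v') : (g = g' → v = v') ∧ (v = v' → g = g') := by
  have hsupp := coords_mem G h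
  have hsupp' := coords_mem G h'
  obtain ⟨l, φ, hg, hl, hlt, hφ⟩ := h
  obtain ⟨m, ψ, hg', hm, hmt, hψ⟩ := h'
  have hlm : (∀ j, v j ≠ 0 ↔ v' j ≠ 0) → l = m := fun hs => le_antisymm
    (not_lt.1 fun hh => (hs m).2 (hm ▸ one_ne_zero) (hlt m hh))
    (not_lt.1 fun hh => (hs l).1 (hl ▸ one_ne_zero) (hmt l hh))
  constructor
  · rintro rfl
    obtain rfl := hlm fun j => (hsupp j).symm.trans (hsupp' j)
    have e : φ = ψ := congrArg CommRingCat.Hom.hom (Spec.map_injective ((cancel_mono _).1 (hg.trans hg'.symm)))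
    subst e
    funext j
    simpa using RingHom.congr_fun (hφ.symm.trans hψ) (X j)
  · rintro rfl
    obtain rfl := hlm fun j => Iff.rfl
    have hsur : Function.Surjective (tau G l) := fun z => by
      obtain ⟨y, rfl⟩ := (LefPen.hypIdeal G).subschemeι_app_surjective (CompInt.C k n l) z
      obtain ⟨p, hp⟩ := ProjMor.exists_deh_eq (𝒜 := CohB1.polyGrading n k) (PicPn.X_mem l) y
      exact ⟨p, congrArg (res' G l) hp⟩
    have e : φ = ψ := RingHom.ext fun z => by
      obtain ⟨p, rfl⟩ := hsur z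
      exact RingHom.congr_fun (hφ.trans hψ.symm) p
    rw [← hg, ← hg', e]

theorem coords_valid {g : Spec (CommRingCat.of k) ⟶ Z G} {v : Fin (n + 1) → k} (h : Coords G g v) :
    g ≫ str G = Spec.map (CommRingCat.ofHom (algebraMap k k)) ∧ v ∈ Norm G := by
  obtain ⟨l, φ, rfl, hl, hlt, hφ⟩ := h
  refine ⟨?_, l, hl, hlt, ?_⟩
  · rw [Algebra.algebraMap_self, CommRingCat.ofHom_id, Spec.map_id]
    refine (chartPt_str G l φ).2 (RingHom.ext fun c => ?_)
    rw [RingHom.comp_apply, toK_eq]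
    exact (RingHom.congr_fun hφ (C c)).trans (eval_C c)
  · rw [← hφ, RingHom.comp_apply, tau_form, map_zero]

/-- The rational points. -/
theorem card_points : SgaExt.pointCount (str G) k = Nat.card (Norm G) := by
  have hg : ∀ g : {g : Spec (CommRingCat.of k) ⟶ Z G //
      g ≫ str G = Spec.map (CommRingCat.ofHom (algebraMap k k))}, ∃ v : Norm G, Coords G g.1 v.1 := by
    rintro ⟨g, hg⟩
    rw [Algebra.algebraMap_self, CommRingCat.ofHom_id, Spec.map_id] at hg
    obtain ⟨l, hl, hmin⟩ := exists_min (p := fun l => g.base pt0 ∈ U G l)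
      (PicPn.exists_mem_ch ((LefPen.hypIdeal G).subschemeι.base (g.base pt0)))
    obtain ⟨φ, rfl⟩ := exists_chartPt G hl
    have h : Coords G (chartPt G l φ) fun j => φ (tau G l (X j)) :=
      ⟨l, φ, rfl, by simp [tau_self], fun j hj => not_not.1 fun h => hmin j hj ((mem_iff G l j φ).2 h),
        tau_hom_eq G l φ ((chartPt_str G l φ).1 hg)⟩
    exact ⟨⟨_, (coords_valid G h).2⟩, h⟩
  choose V hV using hg
  refine Nat.card_congr (Equiv.ofBijective V ⟨fun a b e => Subtype.ext ?_, fun v => ?_⟩)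
  · exact (coords_unique G (hV a) (hV b)).2 (congrArg Subtype.val e)
  · obtain ⟨v, l, hl, hlt, hv⟩ := v
    obtain ⟨φ, hφ⟩ := exists_hom G l v hl hv
    have h : Coords G (chartPt G l φ) v := ⟨l, φ, rfl, hl, hlt, hφ⟩
    exact ⟨⟨_, (coords_valid G h).1⟩, Subtype.ext ((coords_unique G (hV _) h).1 rfl)⟩

/-- The cone over the hypersurface consists of the scalings of the normalised vectors, and the origin. -/
theorem card_cone [Fintype k] (hd : 0 < d) :
    Nat.card {v : Fin (n + 1) → k | eval v G.1 = 0} = Nat.card (Norm G) * (Fintype.card k - 1) + 1 := by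
  classical
  have hhom : G.1.IsHomogeneous d := (MvPolynomial.mem_homogeneousSubmodule d _).1 G.2
  have hsmul : ∀ (c : k) (v : Fin (n + 1) → k), eval (c • v) G.1 = c ^ d * eval v G.1 := fun c v => by
    rw [eval_eq', eval_eq', Finset.mul_sum]
    refine Finset.sum_congr rfl fun m hm => ?_
    have hdeg : m.degree = d := not_not.1 fun h => (mem_support_iff.1 hm) (hhom.coeff_eq_zero h)
    simp only [Pi.smul_apply, smul_eq_mul, mul_pow, Finset.prod_mul_distrib, Finset.prod_pow_eq_pow_sum,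
      ← Finsupp.degree_eq_sum, hdeg]
    ring
  let S : Finset (Fin (n + 1) → k) := Finset.univ.filter fun v => eval v G.1 = 0
  have h0 : (0 : Fin (n + 1) → k) ∈ S := by
    have := hsmul 0 0
    rw [smul_zero, zero_pow hd.ne', zero_mul] at this
    simpa [S] using this
  have hset : Nat.card {v : Fin (n + 1) → k | eval v G.1 = 0} = S.card := by
    rw [Nat.card_eq_fintype_card, ← Set.toFinset_card]
    congr 1
    ext v; simp [S]
  have hscale : (S.erase 0).card = Nat.card (kˣ × Norm G) := by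
    rw [← Nat.card_eq_finsetCard]
    refine (Nat.card_congr (Equiv.ofBijective (fun p : kˣ × Norm G => (⟨(p.1 : k) • p.2.1, ?_⟩ : (S.erase 0 : Finset _)))
      ⟨?_, ?_⟩)).symm
    · obtain ⟨l, hl, -, hv⟩ := p.2.2
      refine Finset.mem_erase.2 ⟨fun h => p.1.ne_zero (by simpa [hl] using congrFun h l), ?_⟩
      simp [S, hsmul, hv]
    · rintro ⟨c, v, l, hl, hlt, hv⟩ ⟨c', w, m, hm, hmt, hw⟩ h
      have e : (c : k) • v = (c' : k) • w := congrArg Subtype.val h
      have hlm : l = m := le_antisymm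
        (not_lt.1 fun hh => c'.ne_zero (by simpa [hlt m hh, hm] using (congrFun e m).symm))
        (not_lt.1 fun hh => c.ne_zero (by simpa [hmt l hh, hl] using congrFun e l))
      subst hlm
      have hc : c = c' := Units.ext (by simpa [hl, hm] using congrFun e l)
      subst hc
      exact Prod.ext rfl (Subtype.ext (funext fun j => mul_left_cancel₀ c.ne_zero (congrFun e j)))
    · rintro ⟨v, hv⟩
      obtain ⟨hv0, hv⟩ := Finset.mem_erase.1 hv
      obtain ⟨l, hl, hmin⟩ := exists_min (p := fun l => v l ≠ 0) (Function.ne_iff.1 hv0)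
      refine ⟨⟨Units.mk0 _ hl, (v l)⁻¹ • v, l, by simp [hl], fun j hj => by simp [not_not.1 (hmin j hj)], ?_⟩, ?_⟩
      · rw [hsmul, (Finset.mem_filter.1 hv).2, mul_zero]
      · exact Subtype.ext (by simp [smul_smul, hl])
  rw [hset, ← Finset.card_erase_add_one h0, hscale, Nat.card_prod, Nat.card_units, Nat.card_eq_fintype_card,
    mul_comm]

end Groth.Agent.QuadCount
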