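import Groth.Agent.QuadCount.Count
import Groth.Agent.QuadCount.Points
import Groth.Agent.DualVar.Hess
import Groth.Agent.HodgeCI.CIFacts
import Mathlib

/-!
Point counts of smooth quadrics over finite fields.
-/

set_option autoImplicit false
set_option linter.style.haveILetI false
set_option backward.isDefEq.respectTransparency false
set_option backward.isDefEq.respectTransparency.types false

universe u

open CategoryTheory AlgebraicGeometry MvPolynomial

noncomputable section

namespace Groth.Agent.QuadCount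

variable {k : Type u} [Field k] {M : ℕ}

/-- The quadratic form of a polynomial, with its polar. -/
theorem exists_quadraticForm (G : MvPolynomial (Fin M) k) (hG : G.IsHomogeneous 2) :
    ∃ Q : QuadraticForm k (Fin M → k), (∀ v, Q v = eval v G) ∧
      ∀ v i, QuadraticMap.polar Q v (Pi.single i 1) = eval v (pderiv i G) := by
  classical
  have hpair : ∀ e : Fin M →₀ ℕ, ∃ ab : Option (Fin M × Fin M), e ∈ G.support →
      ∃ a b, ab = some (a, b) ∧ e = Finsupp.single a 1 + Finsupp.single b 1 := fun e => by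
    by_cases he : e ∈ G.support
    · have he2 : e.degree = 2 := not_not.1 fun h => (mem_support_iff.1 he) (hG.coeff_eq_zero h)
      obtain ⟨a, b, h⟩ := DualVar.exists_single_add_single he2
      exact ⟨some (a, b), fun _ => ⟨a, b, rfl, h⟩⟩
    · exact ⟨none, fun h => absurd h he⟩
  choose ab hab using hpair
  let term : (Fin M →₀ ℕ) → QuadraticForm k (Fin M → k) := fun e =>
    (ab e).elim 0 fun p => coeff e G • QuadraticMap.proj p.1 p.2
  have hm : ∀ (a b : Fin M) (c : k), monomial (Finsupp.single a 1 + Finsupp.single b 1) c = C c * (X a * X b) :=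
    fun a b c => by rw [X, X, monomial_mul, C_mul_monomial, mul_one, mul_one]
  refine ⟨∑ e ∈ G.support, term e, fun v => ?_, fun v i => ?_⟩
  · conv_rhs => rw [G.as_sum]
    rw [QuadraticMap.sum_apply, map_sum]
    refine Finset.sum_congr rfl fun e he => ?_
    obtain ⟨a, b, h, he'⟩ := hab e he
    simp only [term, h, Option.elim_some, smul_apply, QuadraticMap.proj_apply, smul_eq_mul]
    conv_rhs => rw [he', hm, ← he']
    simp
  · conv_rhs => rw [G.as_sum]
    simp only [QuadraticMap.polar, QuadraticMap.sum_apply, map_sum, ← Finset.sum_sub_distrib]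
    refine Finset.sum_congr rfl fun e he => ?_
    obtain ⟨a, b, h, he'⟩ := hab e he
    simp only [term, h, Option.elim_some, QuadraticMap.smul_apply, QuadraticMap.proj_apply, smul_eq_mul]
    conv_rhs => rw [he', hm, ← he']
    simp only [map_mul, map_add, pderiv_mul, pderiv_C, pderiv_X, eval_C, eval_X, Pi.add_apply, map_zero, Pi.single_apply]
    split_ifs <;> simp_all <;> ring

theorem eval_dehP {K : Type u} [CommRing K] (φ : k →+* K) {N : ℕ} (l : Fin (N + 1)) (w : Fin (N + 1) → K)
    (hw : w l = 1) (p : MvPolynomial (Fin (N + 1)) k) :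
    eval₂Hom φ (fun j : {j // j ≠ l} => w j.1) (HypJac.dehP k l p) = eval₂Hom φ w p := by
  refine RingHom.congr_fun (MvPolynomial.ringHom_ext
    (f := (eval₂Hom φ fun j : {j // j ≠ l} => w j.1).comp (HypJac.dehP k l))
    (g := eval₂Hom φ w) (fun c => by simp [HypJac.dehP]) fun j => ?_) p
  by_cases hj : j = l
  · subst hj; simp [HypJac.dehP, hw]
  · simp [HypJac.dehP, hj]

variable {n : ℕ} (G : LefPen.Form (n + 1) k 2)

theorem dehP_ne_zero (hG : G.1 ≠ 0) (l : Fin (n + 1 + 1)) : HypJac.dehP k l G.1 ≠ 0 := by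
  intro hl
  have hhom : G.1.IsHomogeneous 2 := (MvPolynomial.mem_homogeneousSubmodule 2 _).1 G.2
  let K := AlgebraicClosure k
  let P := MvPolynomial.map (algebraMap k K) G.1
  have hP : P.IsHomogeneous 2 := hhom.map _
  refine hG (MvPolynomial.map_injective (algebraMap k K) (algebraMap k K).injective ?_)
  rw [map_zero]
  refine (mul_eq_zero.1 (MvPolynomial.funext (p := P * X l) (q := 0) fun v => ?_)).resolve_right (X_ne_zero l)
  rw [map_mul, eval_X, map_zero]
  by_cases h : v l = 0
  · rw [h, mul_zero]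
  · have h1 : eval ((v l)⁻¹ • v) P = 0 := by
      have h0 := eval_dehP (algebraMap k K) l ((v l)⁻¹ • v) (inv_mul_cancel₀ h) G.1
      rw [hl, map_zero] at h0
      rw [MvPolynomial.eval_map]
      exact h0.symm
    have h2 : eval ((v l)⁻¹ • v) P = ((v l)⁻¹) ^ 2 * eval v P := by
      rw [eval_eq', eval_eq', Finset.mul_sum]
      refine Finset.sum_congr rfl fun m hm => ?_
      have hdeg : m.degree = 2 := not_not.1 fun h => (mem_support_iff.1 hm) (hP.coeff_eq_zero h)
      simp only [Pi.smul_apply, smul_eq_mul, mul_pow, Finset.prod_mul_distrib, Finset.prod_pow_eq_pow_sum,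
        ← Finsupp.degree_eq_sum, hdeg]
      ring
    rw [h2, mul_eq_zero, or_iff_right (pow_ne_zero 2 (inv_ne_zero h))] at h1
    rw [h1, zero_mul]

variable [SmoothOfRelativeDimension n ((LefPen.hypIdeal G).subschemeι ≫ CohB1.ProjSpace.toSpec (n + 1) k)]

theorem ne_zero_of_smooth : G.1 ≠ 0 := by
  let a : Fin 1 → ℕ := fun _ => 2
  let F : ∀ j : Fin 1, LefPen.Form (n + 1) k (a j) := fun _ => G
  have hI : LefPen.ciIdeal F = LefPen.hypIdeal G := ciSup_unique
  haveI : SmoothOfRelativeDimension n ((LefPen.ciIdeal F).subschemeι ≫ CohB1.ProjSpace.toSpec (n + 1) k) := by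
    rw [hI]; infer_instance
  have hci := HodgeCI.isCI_of_smooth (n := n) (d := 1) (a := a) (fun _ => one_le_two) F
  have h : G ≠ 0 := hci.last_ne_zero (r := 0)
  exact fun e => h (Subtype.ext e)

theorem noSing_of_smooth (Q : QuadraticForm k (Fin (n + 1 + 1) → k)) (hQ : ∀ v, Q v = eval v G.1)
    (hpol : ∀ v i, QuadraticMap.polar Q v (Pi.single i 1) = eval v (pderiv i G.1)) : NoSing Q := by
  intro v hv hvP
  by_contra hne
  obtain ⟨l, hl⟩ := Function.ne_iff.1 hne
  haveI : Smooth ((LefPen.hypIdeal G).subschemeι ≫ CohB1.ProjSpace.toSpec (n + 1) k) :=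
    SmoothOfRelativeDimension.smooth n _
  have htop := (HypJac.smooth_hyp_iff G (dehP_ne_zero G (ne_zero_of_smooth G))).1 inferInstance l
  let w := (v l)⁻¹ • v
  have hw1 : w l = 1 := inv_mul_cancel₀ hl
  have hpt : ∀ p, eval (fun j : {j // j ≠ l} => w j.1) (HypJac.dehP k l p) = eval w p := fun p => by
    refine RingHom.congr_fun (MvPolynomial.ringHom_ext (f := (eval fun j : {j // j ≠ l} => w j.1).comp (HypJac.dehP k l))
      (g := eval w) (fun c => by simp [HypJac.dehP]) fun j => ?_) p
    by_cases hj : j = l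
    · subst hj; simp [HypJac.dehP, hw1]
    · simp [HypJac.dehP, hj]
  have hle : HypJac.jac (HypJac.dehP k l G.1) ≤ RingHom.ker (eval fun j : {j // j ≠ l} => w j.1) := by
    rw [HypJac.jac, Ideal.span_le]
    rintro _ (rfl | ⟨j, rfl⟩)
    · rw [SetLike.mem_coe, RingHom.mem_ker, hpt, ← hQ, QuadraticMap.map_smul, hv, smul_zero]
    · rw [SetLike.mem_coe, RingHom.mem_ker]
      show eval _ (pderiv j (HypJac.dehP k l G.1)) = 0
      rw [DualVar.pderiv_dehP k (n + 1) l j.1 j.2 G.1, hpt, ← hpol, QuadraticMap.polar_smul_left, hvP, smul_zero]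
  exact RingHom.ker_ne_top _ (top_le_iff.1 (htop ▸ hle))

theorem pointCount_quadric [Fintype k] :
    (Odd n → (SgaExt.pointCount ((LefPen.hypIdeal G).subschemeι ≫ CohB1.ProjSpace.toSpec (n + 1) k) k : ℤ) =
        ∑ i ∈ Finset.range (n + 1), (Fintype.card k : ℤ) ^ i) ∧
      (Even n → ∃ ε : ℤ, (ε = 1 ∨ ε = -1) ∧
        (SgaExt.pointCount ((LefPen.hypIdeal G).subschemeι ≫ CohB1.ProjSpace.toSpec (n + 1) k) k : ℤ) =
          (∑ i ∈ Finset.range (n + 1), (Fintype.card k : ℤ) ^ i) + ε * (Fintype.card k : ℤ) ^ (n / 2) ∧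
        (ε = 1 ↔ ∃ W : Submodule k (Fin (n + 1 + 1) → k),
          Module.finrank k ↥W = n / 2 + 1 ∧ ∀ w ∈ W, eval w G.1 = 0)) := by
  obtain ⟨Q, hQ, hpol⟩ := exists_quadraticForm G.1 ((MvPolynomial.mem_homogeneousSubmodule 2 _).1 G.2)
  have hns := noSing_of_smooth G Q hQ hpol
  have hN : Module.finrank k (Fin (n + 1 + 1) → k) = n + 2 := by simp
  obtain ⟨ho, he⟩ := count (n + 2) _ hN Q hns
  set q := (Fintype.card k : ℤ) with hqdef
  have hq1 : 1 < q := by rw [hqdef]; exact_mod_cast Fintype.one_lt_card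
  have hcone : (Nat.card {u : Fin (n + 1 + 1) → k // Q u = 0} : ℤ) =
      (SgaExt.pointCount (str G) k : ℤ) * (q - 1) + 1 := by
    have h1 : Nat.card {u : Fin (n + 1 + 1) → k // Q u = 0} = Nat.card {v : Fin (n + 1 + 1) → k | eval v G.1 = 0} :=
      Nat.card_congr (Equiv.subtypeEquivRight fun v => by simp [hQ])
    rw [h1, card_cone G (by omega), card_points]
    push_cast [Nat.cast_sub Fintype.card_pos]
    rfl
  have hgeo : (∑ i ∈ Finset.range (n + 1), q ^ i) * (q - 1) = q ^ (n + 1) - 1 := geom_sum_mul q (n + 1)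
  have hne : q * (q - 1) ≠ 0 := mul_ne_zero (by omega) (by omega)
  constructor
  · intro hodd
    have h := ho (by rw [Nat.odd_add]; exact iff_of_true hodd even_two)
    rw [hcone, pow_succ] at h
    refine mul_right_cancel₀ hne ?_
    linear_combination h - q * hgeo
  · intro hev
    obtain ⟨c, rfl⟩ := hev
    obtain ⟨ε, hε, hsplit, h⟩ := he (c + 1) (by omega)
    refine ⟨ε, hε, ?_, ?_⟩
    · rw [show (c + c) / 2 = c by omega]
      rw [hcone, pow_succ q (c + 1), pow_succ q c, pow_succ q (c + c + 1)] at h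
      refine mul_right_cancel₀ hne ?_
      linear_combination h - q * hgeo
    · rw [hsplit, split_iff_exact Q (m := c + 1) (by rw [hN]; omega), show (c + c) / 2 + 1 = c + 1 by omega]
      simp only [hQ]

end Groth.Agent.QuadCount
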